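import Mathlib

/-!
# AbCent: finite groups in which centralizers of involutions are abelian (project for S2202)

Definitions shared by all pieces of the project.  See `PLAN.md` in this folder.
-/

set_option autoImplicit false

namespace Cfsg.Agent.Lib.helper6.AbCent

/-- centralizers of involutions are abelian (elementwise form) -/
def AC (G : Type*) [Group G] : Prop :=
  ∀ t : G, orderOf t = 2 → ∀ x y : G, x * t = t * x → y * t = t * y → x * y = y * x

/-- number of involutions of a subgroup -/
noncomputable def nI {G : Type*} [Group G] (H : Subgroup G) : ℕ :=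
  Nat.card {t : G // t ∈ H ∧ orderOf t = 2}

/-- normalizer of a Sylow 2-subgroup -/
abbrev NN {G : Type*} [Group G] (P : Sylow 2 G) : Subgroup G :=
  Subgroup.normalizer ((P : Subgroup G) : Set G)

/-- centralizer of a Sylow 2-subgroup -/
abbrev CC {G : Type*} [Group G] (P : Sylow 2 G) : Subgroup G :=
  Subgroup.centralizer ((P : Subgroup G) : Set G)

/-- the subgroup generated by the odd-order elements of `C_G(P)` (under `Setup` it consists of them) -/
def KK {G : Type*} [Group G] (P : Sylow 2 G) : Subgroup G :=
  Subgroup.closure {x : G | x ∈ CC P ∧ Odd (orderOf x)}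

/-- the basic setting: `AC`, and the Sylow 2-subgroups are neither cyclic nor normal -/
structure Setup (G : Type*) [Group G] : Prop where
  ac : AC G
  nc : ∀ P : Sylow 2 G, ¬ IsCyclic ↥(P : Subgroup G)
  nn : ∀ P : Sylow 2 G, ¬ (P : Subgroup G).Normal

/-- clean: centralizers of involutions are 2-groups -/
def Clean (G : Type*) [Group G] : Prop :=
  ∀ t x : G, orderOf t = 2 → x * t = t * x → ∃ n : ℕ, orderOf x = 2 ^ n

/-- the inductive conclusion: `G = L × K`, `K` central of odd order, `L` clean -/
def Concl (G : Type*) [Group G] : Prop :=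
  ∃ L K : Subgroup G, L.Normal ∧ K ≤ Subgroup.center G ∧ Odd (Nat.card K) ∧ L ⊓ K = ⊥ ∧
    L ⊔ K = ⊤ ∧ Clean ↥L

end Cfsg.Agent.Lib.helper6.AbCent
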