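import Mathlib
import Cfsg.Agent.Lib.helper6.AbCent.Defs
import Cfsg.Agent.Lib.helper2.AbCentB
import Cfsg.Agent.Lib.helper17.AbCentC
import Cfsg.Agent.Lib.helper6.ZassFeitC
import Cfsg.Agent.Lib.helper6.ZassFeitE
import Cfsg.Agent.Lib.helper6.ZassInvol
import Cfsg.Agent.Lib.helper6.SuzClass
import Cfsg.Agent.Lib.helper6.Sharp3
import Cfsg.Agent.Lib.helper6.PGLSL
import Cfsg.Agent.S0338

/-!
# AbCent, piece U: the clean case is `SL₂(2^n)`
-/

set_option autoImplicit false

namespace Cfsg.Agent.Lib.helper6.AbCent.U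
open Cfsg.Agent.Lib.helper6.AbCent Cfsg.Agent.Lib.helper2.AbCent Cfsg.Agent.Lib.helper17.AbCent
open MulAction

universe u
variable {G : Type u} [Group G] [Finite G]

theorem exists_ne (hS : Setup G) (P : Sylow 2 G) : ∃ Q : Sylow 2 G, P ≠ Q := by
  by_contra hcon
  push Not at hcon
  apply hS.nn P
  rw [← Subgroup.normalizer_eq_top_iff, eq_top_iff]
  intro g _
  exact Sylow.smul_eq_iff_mem_normalizer.mp (hcon (g • P)).symm

theorem smul_ne_of_mem (hS : Setup G) (P : Sylow 2 G) {k : G} (hk : k ∈ P) (hk1 : k ≠ 1)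
    (x : Sylow 2 G) (hx : x ≠ P) : k • x ≠ x := by
  intro h
  have hkN : k ∈ NN x := Sylow.smul_eq_iff_mem_normalizer.mp h
  have h2 : ∃ n : ℕ, orderOf k = 2 ^ n := by
    obtain ⟨n, hn⟩ := (IsPGroup.iff_orderOf.mp P.isPGroup') ⟨k, hk⟩
    exact ⟨n, (Subgroup.orderOf_coe (⟨k, hk⟩ : (P : Subgroup G))).trans hn⟩
  have hkx : k ∈ x := mem_sylow_of_normalizes x h2 hkN
  exact hx (sylow_TI hS.ac P x hk1 hk hkx).symm

theorem zk (hS : Setup G) (hc : Clean G) (P Q : Sylow 2 G) (hPQ : P ≠ Q) :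
    Cfsg.Agent.Lib.helper6.ZassPSL3.ZK G (Sylow 2 G) P Q (P : Subgroup G) :=
  { two := fun h1 h2 => MulAction.is_two_pretransitive_iff.mp (clean_zassenhaus hS hc).2.1 h1 h2
    three := (clean_zassenhaus hS hc).2.2.1
    hi0 := hPQ
    kfix := fun k hk => Sylow.smul_eq_iff_mem_normalizer.mpr (Subgroup.le_normalizer hk)
    kfpf := fun k hk hk1 x hx => smul_ne_of_mem hS P hk hk1 x hx
    ktr := fun x y hx hy => clean_trans hS hc P x y hx hy
    knorm := fun g hg k hk => by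
      have hgN : g ∈ NN P := Sylow.smul_eq_iff_mem_normalizer.mp hg
      exact (Subgroup.mem_normalizer_iff.mp hgN k).mp hk }

theorem clean_main (hS : Setup G) (hc : Clean G) (P : Sylow 2 G) :
    Nat.card ↥(P : Subgroup G) = nI (P : Subgroup G) + 1 ∧
    ∃ (F : Type) (_ : Field F) (_ : Fintype F), CharP F 2 ∧
      Nonempty (G ≃* Matrix.SpecialLinearGroup (Fin 2) F) := by
  classical
  obtain ⟨Q, hPQ⟩ := exists_ne hS P
  haveI : Fintype (Sylow 2 G) := Fintype.ofFinite _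
  have hZ := clean_zassenhaus hS hc
  have Z := zk hS hc P Q hPQ
  have kcomm := sylow_comm hS.ac P
  have hstab : ∀ R : Sylow 2 G, stabilizer G R = NN R := fun R => Sylow.stabilizer_eq_normalizer R
  set e := Nat.card ↥(stabilizer G P ⊓ stabilizer G Q : Subgroup G) with he
  have heD : e = nI (P : Subgroup G) := by
    rw [he, hstab, hstab]
    exact clean_card_D hS hc P Q hPQ
  have hodd : Odd e := by
    rw [he, hstab, hstab]
    exact odd_inf_normalizer hS.ac P Q hPQ
  have hcardΩ : Fintype.card (Sylow 2 G) = Nat.card ↥(P : Subgroup G) + 1 := by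
    rw [← Nat.card_eq_fintype_card]
    exact clean_card_sylow hS hc P
  have h3 : 3 ≤ nI (P : Subgroup G) := three_le_nI hS P
  -- an involution in P
  have hne : Nonempty {t : G // t ∈ (P : Subgroup G) ∧ orderOf t = 2} := by
    by_contra hemp
    rw [not_nonempty_iff] at hemp
    have : nI (P : Subgroup G) = 0 := Nat.card_of_isEmpty
    omega
  obtain ⟨⟨t, htP, ht2⟩⟩ := hne
  have hPeven : Even (Nat.card ↥(P : Subgroup G)) := by
    have h1 : orderOf (⟨t, htP⟩ : (P : Subgroup G)) = 2 := by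
      rw [← Subgroup.orderOf_coe]
      exact ht2
    have := orderOf_dvd_natCard (⟨t, htP⟩ : (P : Subgroup G))
    rw [h1] at this
    exact even_iff_two_dvd.2 this
  have hoddΩ : Odd (Fintype.card (Sylow 2 G)) := by
    rw [hcardΩ]
    exact hPeven.add_one
  haveI : IsSimpleGroup G := Cfsg.Agent.S0338.result hZ hoddΩ
  have hbound : Fintype.card (Sylow 2 G) - 2 ≤ 2 * e :=
    Cfsg.Agent.Lib.helper6.ZassFeit.simple_odd_bound hZ Z kcomm hodd
  have hEd : e ∣ Fintype.card (Sylow 2 G) - 2 :=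
    Cfsg.Agent.Lib.helper6.ZassFeit.E_dvd Z.three hPQ
  have hcard_e : Fintype.card (Sylow 2 G) - 2 = e := by
    obtain ⟨k, hk⟩ := hEd
    obtain ⟨j, hj⟩ := hPeven
    obtain ⟨l, hl⟩ := hodd
    have hP2 : 2 ≤ Nat.card ↥(P : Subgroup G) := by
      have : 0 < Nat.card ↥(P : Subgroup G) := Nat.card_pos
      omega
    have hk1 : 1 ≤ k := by
      rcases Nat.eq_zero_or_pos k with h | h
      · rw [h, mul_zero] at hk; omega
      · exact h
    have hk2 : k ≤ 2 := by
      by_contra hlt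
      push Not at hlt
      have : e * 3 ≤ e * k := Nat.mul_le_mul_left e hlt
      omega
    interval_cases k
    · omega
    · exfalso
      omega
  refine ⟨by omega, ?_⟩
  have hpair : ∀ a b : Sylow 2 G, a ≠ b →
      Nat.card ↥(stabilizer G a ⊓ stabilizer G b : Subgroup G) + 2 = Fintype.card (Sylow 2 G) := by
    intro a b hab
    rw [Cfsg.Agent.Lib.helper6.ZassInvol.card_pair hZ hPQ hab]
    omega
  obtain ⟨h3t, hsharp⟩ := Cfsg.Agent.Lib.helper6.ZassFeit.sharp3_of_card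
    (fun h1 h2 => Z.two h1 h2) Z.three hpair
  -- a third point
  have ht1 : t ≠ 1 := by
    intro h
    rw [h, orderOf_one] at ht2
    omega
  have htQ : t • Q ≠ Q := Z.kfpf t htP ht1 Q (Ne.symm hPQ)
  have htQP : t • Q ≠ P := by
    intro h
    have h2 : t • P = P := Z.kfix t htP
    rw [← h2] at h
    exact hPQ (MulAction.injective t h).symm
  haveI : FaithfulSMul G (Sylow 2 G) := hZ.1
  obtain ⟨F, iF, iFin, hcardF, ⟨hiso⟩⟩ :=
    Cfsg.Agent.Lib.helper6.Sharp3.sharp3_odd (G := G) (α := Sylow 2 G) hoddΩ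
      (Cfsg.Agent.Lib.helper6.SuzGrp.sharp_T3 h3t) (Cfsg.Agent.Lib.helper6.SuzGrp.sharp_S3 hsharp)
      (Ne.symm htQ) hPQ (Ne.symm htQP)
  have hFeven : Fintype.card F % 2 = 0 := by
    obtain ⟨j, hj⟩ := hPeven
    omega
  have hchar : ringChar F = 2 := FiniteField.even_card_iff_char_two.mpr hFeven
  have h2F : (2 : F) = 0 := by
    have := CharP.cast_eq_zero F (ringChar F)
    rw [hchar] at this
    exact_mod_cast this
  have hCP : CharP F 2 := by
    refine (CharP.charP_iff_prime_eq_zero Nat.prime_two).mpr ?_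
    exact_mod_cast h2F
  obtain ⟨e'⟩ := Cfsg.Agent.Lib.helper6.PGLSL.nonempty_PGL2_mulEquiv_SL2 (F := F) h2F
  exact ⟨F, iF, iFin, hCP, ⟨hiso.trans e'⟩⟩

theorem clean_iso (hS : Setup G) (hc : Clean G) :
    ∃ (F : Type) (_ : Field F) (_ : Fintype F), CharP F 2 ∧
      Nonempty (G ≃* Matrix.SpecialLinearGroup (Fin 2) F) := by
  obtain ⟨P⟩ : Nonempty (Sylow 2 G) := inferInstance
  exact (clean_main hS hc P).2

theorem clean_card_sylow_eq (hS : Setup G) (hc : Clean G) (P : Sylow 2 G) :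
    Nat.card ↥(P : Subgroup G) = nI (P : Subgroup G) + 1 :=
  (clean_main hS hc P).1

end Cfsg.Agent.Lib.helper6.AbCent.U
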