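import Mathlib
import Cfsg.Agent.Lib.helper6.AbCent.Defs
import Cfsg.Agent.Lib.helper2.AbCentB
import Cfsg.Agent.Lib.helper2.AbCentK
import Cfsg.Agent.Lib.Helper21.AbCentF
import Cfsg.Agent.S0338
import Cfsg.Agent.S0346

/-!
# AbCent, piece Z: the Zassenhaus endgame
-/

set_option autoImplicit false

namespace Cfsg.Agent.Lib.helper6.AbCent.Z
open Cfsg.Agent.Lib.helper6.AbCent Cfsg.Agent.Lib.helper2.AbCent Cfsg.Agent.Lib.Helper21.AbCent
open MulAction

universe u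
variable {G : Type u} [Group G] [Finite G]

theorem pow2_of_mem (P : Sylow 2 G) {x : G} (hx : x ∈ P) : ∃ n : ℕ, orderOf x = 2 ^ n := by
  obtain ⟨n, hn⟩ := (IsPGroup.iff_orderOf.mp P.isPGroup') ⟨x, hx⟩
  exact ⟨n, (Subgroup.orderOf_coe (⟨x, hx⟩ : (P : Subgroup G))).trans hn⟩

theorem eq_one_of_pow2_of_odd {x : G} (h2 : ∃ n : ℕ, orderOf x = 2 ^ n) (hodd : Odd (orderOf x)) :
    x = 1 := by
  obtain ⟨n, hn⟩ := h2
  rw [hn] at hodd
  rcases Nat.eq_zero_or_pos n with h | h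
  · rw [h, pow_zero] at hn
    exact orderOf_eq_one_iff.mp hn
  · exfalso
    have : Even (2 ^ n) := (Nat.even_pow' (by omega)).mpr even_two
    exact (Nat.not_even_iff_odd.mpr hodd) this

theorem P_le_CC (hS : Setup G) (P : Sylow 2 G) : (P : Subgroup G) ≤ CC P := by
  intro x hx
  rw [Subgroup.mem_centralizer_iff]
  intro y hy
  exact sylow_comm hS.ac P y hy x hx

theorem KK_le_CC (hS : Setup G) (P : Sylow 2 G) : KK P ≤ CC P := fun _ hx => ((mem_KK hS P).mp hx).1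

theorem CC_le_NN (P : Sylow 2 G) : CC P ≤ NN P := Subgroup.centralizer_le_normalizer _

theorem odd_orderOf_of_mem_D (hS : Setup G) (P Q : Sylow 2 G) (hPQ : P ≠ Q) {d : G}
    (hd : d ∈ NN P ⊓ NN Q) : Odd (orderOf d) := by
  have h1 := odd_inf_normalizer hS.ac P Q hPQ
  have h2 : orderOf (⟨d, hd⟩ : ↥(NN P ⊓ NN Q)) ∣ Nat.card ↥(NN P ⊓ NN Q) := orderOf_dvd_natCard _
  rw [← Subgroup.orderOf_coe] at h2
  exact Odd.of_dvd_nat h1 h2

section
variable (hS : Setup G) (hsemi : ∀ P Q : Sylow 2 G, P ≠ Q → KK P ⊓ NN Q = ⊥)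
include hS hsemi

theorem D_inf_CC (P Q : Sylow 2 G) (hPQ : P ≠ Q) {x : G} (hx : x ∈ NN P ⊓ NN Q) (hxC : x ∈ CC P) :
    x = 1 := by
  have hodd := odd_orderOf_of_mem_D hS P Q hPQ hx
  have hK : x ∈ KK P := (mem_KK hS P).mpr ⟨hxC, hodd⟩
  have : x ∈ KK P ⊓ NN Q := Subgroup.mem_inf.mpr ⟨hK, (Subgroup.mem_inf.mp hx).2⟩
  rw [hsemi P Q hPQ] at this
  exact Subgroup.mem_bot.mp this

theorem comm_of_fix (P Q : Sylow 2 G) (hPQ : P ≠ Q) {d a : G} (hd : d ∈ NN P ⊓ NN Q)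
    (ha : a ∈ CC P) (hfix : d ∈ NN (a • Q)) : d * a = a * d := by
  have hdP := (Subgroup.mem_inf.mp hd).1
  have hdQ := (Subgroup.mem_inf.mp hd).2
  have haN : a ∈ NN P := CC_le_NN P ha
  -- a⁻¹ d a ∈ D
  have h1 : a⁻¹ * d * a ∈ NN Q := by
    apply Sylow.smul_eq_iff_mem_normalizer.mp
    have := Sylow.smul_eq_iff_mem_normalizer.mpr hfix
    rw [mul_smul, mul_smul, this, inv_smul_smul]
  have h2 : a⁻¹ * d * a ∈ NN P := mul_mem (mul_mem (inv_mem haN) hdP) haN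
  have hc : a⁻¹ * d * a * d⁻¹ ∈ NN P ⊓ NN Q :=
    Subgroup.mem_inf.mpr ⟨mul_mem h2 (inv_mem hdP), mul_mem h1 (inv_mem hdQ)⟩
  have hcC : a⁻¹ * d * a * d⁻¹ ∈ CC P := by
    have h3 : d * a * d⁻¹ ∈ CC P := by
      rw [Subgroup.mem_centralizer_iff]
      intro y hy
      have hy' : d⁻¹ * y * d ∈ (P : Subgroup G) := by
        have := (Subgroup.mem_normalizer_iff.mp (inv_mem hdP) y).mp hy
        simpa using this
      have hcomm := Subgroup.mem_centralizer_iff.mp ha _ hy'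
      calc y * (d * a * d⁻¹) = d * ((d⁻¹ * y * d) * a) * d⁻¹ := by group
        _ = d * (a * (d⁻¹ * y * d)) * d⁻¹ := by rw [hcomm]
        _ = d * a * d⁻¹ * y := by group
    have : a⁻¹ * d * a * d⁻¹ = a⁻¹ * (d * a * d⁻¹) := by group
    rw [this]
    exact mul_mem (inv_mem ha) h3
  have h1' := D_inf_CC hS hsemi P Q hPQ hc hcC
  calc d * a = a * (a⁻¹ * d * a * d⁻¹) * d := by group
    _ = a * d := by rw [h1', mul_one]

end

/-- an involution in the cyclic group generated by a nontrivial 2-element -/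
theorem exists_invol_pow {x : G} (h2 : ∃ n : ℕ, orderOf x = 2 ^ n) (hx1 : x ≠ 1) :
    ∃ m : ℕ, orderOf (x ^ m) = 2 := by
  obtain ⟨n, hn⟩ := h2
  rcases Nat.eq_zero_or_pos n with h | h
  · rw [h, pow_zero] at hn
    exact absurd (orderOf_eq_one_iff.mp hn) hx1
  · refine ⟨2 ^ (n - 1), ?_⟩
    have hdvd : 2 ^ (n - 1) ∣ orderOf x := by rw [hn]; exact pow_dvd_pow 2 (by omega)
    rw [orderOf_pow_of_dvd (by positivity) hdvd, hn]
    have : 2 ^ n = 2 ^ (n - 1) * 2 := by rw [← pow_succ]; congr 1; omega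
    rw [this, Nat.mul_div_cancel_left _ (by positivity)]

section
variable (hS : Setup G) (hsemi : ∀ P Q : Sylow 2 G, P ≠ Q → KK P ⊓ NN Q = ⊥)
  (hfpf : ∀ P Q : Sylow 2 G, P ≠ Q → ∀ d ∈ NN P ⊓ NN Q, d ≠ 1 → ∀ k ∈ KK P, k * d = d * k → k = 1)
include hS hsemi hfpf

theorem eq_one_of_comm (P Q : Sylow 2 G) (hPQ : P ≠ Q) {d a : G} (hd : d ∈ NN P ⊓ NN Q)
    (hd1 : d ≠ 1) (ha : a ∈ CC P) (hda : d * a = a * d) : a = 1 := by
  have hdP := (Subgroup.mem_inf.mp hd).1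
  obtain ⟨x, hx, k, hk, rfl⟩ := mem_CC_decomp hS P ha
  have hdx : d * x * d⁻¹ ∈ (P : Subgroup G) := (Subgroup.mem_normalizer_iff.mp hdP x).mp hx
  have hdk : d * k * d⁻¹ ∈ KK P :=
    (Subgroup.mem_normalizer_iff.mp (NN_le_normalizer_KK P hdP) k).mp hk
  -- x⁻¹ (d x d⁻¹) = k (d k d⁻¹)⁻¹
  have heq : x⁻¹ * (d * x * d⁻¹) = k * (d * k * d⁻¹)⁻¹ := by
    have h1 : (d * x * d⁻¹) * (d * k * d⁻¹) = x * k := by
      calc (d * x * d⁻¹) * (d * k * d⁻¹) = d * (x * k) * d⁻¹ := by group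
        _ = x * k := by rw [hda]; group
    calc x⁻¹ * (d * x * d⁻¹) = x⁻¹ * ((d * x * d⁻¹) * (d * k * d⁻¹)) * (d * k * d⁻¹)⁻¹ := by group
      _ = k * (d * k * d⁻¹)⁻¹ := by rw [h1]; group
  have hz1 : x⁻¹ * (d * x * d⁻¹) = 1 := by
    apply eq_one_of_pow2_of_odd
    · exact pow2_of_mem P (mul_mem (inv_mem hx) hdx)
    · rw [heq]
      exact ((mem_KK hS P).mp (mul_mem hk (inv_mem hdk))).2
  have hxd : d * x = x * d := by
    calc d * x = x * (x⁻¹ * (d * x * d⁻¹)) * d := by group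
      _ = x * d := by rw [hz1, mul_one]
  have hkd : k * d = d * k := by
    have : k * (d * k * d⁻¹)⁻¹ = 1 := by rw [← heq, hz1]
    calc k * d = k * (d * k * d⁻¹)⁻¹ * d * k := by group
      _ = d * k := by rw [this, one_mul]
  have hk1 : k = 1 := hfpf P Q hPQ d hd hd1 k hk hkd
  have hx1 : x = 1 := by
    by_contra hx1
    obtain ⟨m, hm⟩ := exists_invol_pow (pow2_of_mem P hx) hx1
    have hcent := cent_invol hS.ac P hm (pow_mem hx m)
    have hdC : d ∈ CC P := by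
      rw [← hcent, Subgroup.mem_centralizer_iff]
      intro z hz
      rw [Set.mem_singleton_iff] at hz
      subst hz
      have : Commute d x := hxd
      exact ((this.pow_right m).eq).symm
    exact hd1 (D_inf_CC hS hsemi P Q hPQ hd hdC)
  rw [hk1, hx1, mul_one]

theorem three_fix (g : G) (A B C : Sylow 2 G) (hAB : A ≠ B) (hBC : B ≠ C) (hAC : A ≠ C)
    (hA : g • A = A) (hB : g • B = B) (hC : g • C = C) : g = 1 := by
  by_contra hg1
  obtain ⟨a, ha, haB⟩ := F_trans hS hsemi A B C (Ne.symm hAB) (Ne.symm hAC)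
  have hgD : g ∈ NN A ⊓ NN B := Subgroup.mem_inf.mpr
    ⟨Sylow.smul_eq_iff_mem_normalizer.mp hA, Sylow.smul_eq_iff_mem_normalizer.mp hB⟩
  have hfix : g ∈ NN (a • B) := by
    rw [haB]
    exact Sylow.smul_eq_iff_mem_normalizer.mp hC
  have hcomm := comm_of_fix hS hsemi A B hAB hgD ha hfix
  have ha1 := eq_one_of_comm hS hsemi hfpf A B hAB hgD hg1 ha hcomm
  rw [ha1, one_smul] at haB
  exact hBC haB

theorem exists_ne (P : Sylow 2 G) : ∃ Q : Sylow 2 G, P ≠ Q := by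
  by_contra hcon
  push Not at hcon
  apply hS.nn P
  rw [← Subgroup.normalizer_eq_top_iff, eq_top_iff]
  intro g _
  exact Sylow.smul_eq_iff_mem_normalizer.mp (hcon (g • P)).symm

theorem exists_invol_mem (P : Sylow 2 G) : ∃ t ∈ P, orderOf t = 2 := by
  have h3 := three_le_nI hS P
  have hne : Nonempty {t : G // t ∈ (P : Subgroup G) ∧ orderOf t = 2} := by
    by_contra hemp
    rw [not_nonempty_iff] at hemp
    have : nI (P : Subgroup G) = 0 := Nat.card_of_isEmpty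
    omega
  obtain ⟨⟨t, ht, ht2⟩⟩ := hne
  exact ⟨t, ht, ht2⟩

theorem zassenhaus : Cfsg.IsZassenhausGroup G (Sylow 2 G) := by
  obtain ⟨P⟩ : Nonempty (Sylow 2 G) := inferInstance
  obtain ⟨Q, hPQ⟩ := exists_ne hS hsemi hfpf P
  obtain ⟨t, htP, ht2⟩ := exists_invol_mem hS hsemi hfpf P
  have ht1 : t ≠ 1 := by
    intro h
    rw [h, orderOf_one] at ht2
    omega
  have htPP : t • P = P := Sylow.smul_eq_iff_mem_normalizer.mpr (Subgroup.le_normalizer htP)
  have htQ : t • Q ≠ Q := by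
    intro h
    have hkN : t ∈ NN Q := Sylow.smul_eq_iff_mem_normalizer.mp h
    have hkx : t ∈ Q := mem_sylow_of_normalizes Q ⟨1, by rw [ht2, pow_one]⟩ hkN
    exact hPQ (sylow_TI hS.ac P Q ht1 htP hkx)
  have htQP : t • Q ≠ P := by
    intro h
    rw [← htPP] at h
    exact hPQ (MulAction.injective t h).symm
  have hthree := three_fix hS hsemi hfpf
  refine ⟨⟨?_⟩, ?_, hthree, ?_, ?_⟩
  · intro g₁ g₂ h
    have h1 : g₂⁻¹ * g₁ = 1 := by
      apply hthree _ P Q (t • Q) hPQ (Ne.symm htQ) (Ne.symm htQP)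
      · rw [mul_smul, h, inv_smul_smul]
      · rw [mul_smul, h, inv_smul_smul]
      · rw [mul_smul, h, inv_smul_smul]
    calc g₁ = g₂ * (g₂⁻¹ * g₁) := by group
      _ = g₂ := by rw [h1, mul_one]
  · rw [MulAction.is_two_pretransitive_iff]
    intro a b c d hab hcd
    obtain ⟨g₁, hg₁⟩ := MulAction.exists_smul_eq G a c
    have hne : g₁ • b ≠ c := by
      intro h
      rw [← hg₁] at h
      exact hab (MulAction.injective g₁ h).symm
    obtain ⟨x, hx, hxd⟩ := F_trans hS hsemi c (g₁ • b) d hne (Ne.symm hcd)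
    refine ⟨x * g₁, ?_, ?_⟩
    · rw [mul_smul, hg₁]
      exact Sylow.smul_eq_iff_mem_normalizer.mpr (CC_le_NN c hx)
    · rw [mul_smul, hxd]
  · -- nontrivial two point stabilizer
    have hcard := F_card_D hS hsemi P Q hPQ
    have h3 := three_le_nI hS P
    have hnt : (NN P ⊓ NN Q) ≠ ⊥ := by
      intro hbot
      rw [hbot] at hcard
      simp at hcard
      omega
    obtain ⟨⟨d, hd⟩, hd1'⟩ := (Subgroup.ne_bot_iff_exists_ne_one).mp hnt
    have hd1 : d ≠ 1 := fun h => hd1' (Subtype.ext h)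
    exact ⟨d, hd1, P, Q, hPQ, Sylow.smul_eq_iff_mem_normalizer.mpr (Subgroup.mem_inf.mp hd).1,
      Sylow.smul_eq_iff_mem_normalizer.mpr (Subgroup.mem_inf.mp hd).2⟩
  · intro N hN htr
    by_contra hcon
    push Not at hcon
    -- N has no involution
    have hodd : Odd (Nat.card N) := by
      rw [← Nat.not_even_iff_odd]
      intro heven
      haveI : Fact (Nat.Prime 2) := ⟨Nat.prime_two⟩
      obtain ⟨u, hu⟩ := exists_prime_orderOf_dvd_card' (G := ↥N) 2 heven.two_dvd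
      have hu2 : orderOf (u : G) = 2 := by rw [Subgroup.orderOf_coe]; exact hu
      have hu1 : u ≠ 1 := by
        intro h
        rw [h, orderOf_one] at hu
        omega
      -- u lies in a Sylow
      have hpg : IsPGroup 2 (Subgroup.zpowers (u : G)) := by
        rw [IsPGroup.iff_card, Nat.card_zpowers, hu2]
        exact ⟨1, by rw [pow_one]⟩
      obtain ⟨R, hR⟩ := hpg.exists_le_sylow
      have huR : (u : G) ∈ R := hR (Subgroup.mem_zpowers _)
      have hfix : u • R = R := by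
        rw [Subgroup.smul_def]
        exact Sylow.smul_eq_iff_mem_normalizer.mpr (Subgroup.le_normalizer huR)
      have : u ∈ MulAction.stabilizer (↥N) R := MulAction.mem_stabilizer_iff.mpr hfix
      rw [hcon R, Subgroup.mem_bot] at this
      exact hu1 this
    haveI := hN
    have hNP : N ≤ KK P := odd_le_CC hS P N hodd (by
      intro x _
      have : Subgroup.normalizer (N : Set G) = ⊤ := Subgroup.normalizer_eq_top_iff.mpr hN
      rw [this]
      trivial)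
    have hNQ : N ≤ KK Q := odd_le_CC hS Q N hodd (by
      intro x _
      have : Subgroup.normalizer (N : Set G) = ⊤ := Subgroup.normalizer_eq_top_iff.mpr hN
      rw [this]
      trivial)
    obtain ⟨n, hn⟩ := htr.exists_smul_eq P Q
    have hn1 : (n : G) ∈ KK P ⊓ NN Q :=
      Subgroup.mem_inf.mpr ⟨hNP n.2, CC_le_NN Q (KK_le_CC hS Q (hNQ n.2))⟩
    rw [hsemi P Q hPQ, Subgroup.mem_bot] at hn1
    apply hPQ
    rw [← hn, Subgroup.smul_def, hn1, one_smul]

end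

theorem stepZ (hS : Setup G) (hsemi : ∀ P Q : Sylow 2 G, P ≠ Q → KK P ⊓ NN Q = ⊥)
    (hfpf : ∀ P Q : Sylow 2 G, P ≠ Q → ∀ d ∈ NN P ⊓ NN Q, d ≠ 1 → ∀ k ∈ KK P, k * d = d * k → k = 1)
    (P : Sylow 2 G) : KK P = ⊥ := by
  classical
  haveI : Fintype (Sylow 2 G) := Fintype.ofFinite _
  have hZ := zassenhaus hS hsemi hfpf
  have hcard : Fintype.card (Sylow 2 G) = Nat.card ↥(CC P) + 1 := by
    rw [← Nat.card_eq_fintype_card]
    exact F_card_sylow hS hsemi P
  obtain ⟨t, htP, ht2⟩ := exists_invol_mem hS hsemi hfpf P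
  have hPdvd : Nat.card ↥(P : Subgroup G) ∣ Nat.card ↥(CC P) :=
    Subgroup.card_dvd_of_le (P_le_CC hS P)
  have hKdvd : Nat.card ↥(KK P) ∣ Nat.card ↥(CC P) := Subgroup.card_dvd_of_le (KK_le_CC hS P)
  have h2P : 2 ∣ Nat.card ↥(P : Subgroup G) := by
    have h1 : orderOf (⟨t, htP⟩ : (P : Subgroup G)) = 2 := by
      rw [← Subgroup.orderOf_coe]
      exact ht2
    have := orderOf_dvd_natCard (⟨t, htP⟩ : (P : Subgroup G))
    rwa [h1] at this
  have h2C : 2 ∣ Nat.card ↥(CC P) := h2P.trans hPdvd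
  have hoddΩ : Odd (Fintype.card (Sylow 2 G)) := by
    rw [hcard]
    exact (even_iff_two_dvd.mpr h2C).add_one
  haveI : IsSimpleGroup G := Cfsg.Agent.S0338.result hZ hoddΩ
  have hpp : IsPrimePow (Fintype.card (Sylow 2 G) - 1) := Cfsg.Agent.S0346.result hZ
  rw [hcard, Nat.add_sub_cancel] at hpp
  obtain ⟨p, k, hp, hk, hpk⟩ := hpp
  have hp' : Nat.Prime p := Nat.prime_iff.mpr hp
  have hp2 : p = 2 := by
    have : 2 ∣ p ^ k := by rw [hpk]; exact h2C
    have := Nat.Prime.dvd_of_dvd_pow Nat.prime_two this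
    exact ((Nat.prime_dvd_prime_iff_eq Nat.prime_two hp').mp this).symm
  subst hp2
  have hKodd := odd_card_KK hS P
  rw [← hpk] at hKdvd
  obtain ⟨j, _, hj⟩ := (Nat.dvd_prime_pow Nat.prime_two).mp hKdvd
  rw [hj] at hKodd
  have hj0 : j = 0 := by
    by_contra hj0
    have : Even (2 ^ j) := (Nat.even_pow' hj0).mpr even_two
    exact (Nat.not_even_iff_odd.mpr hKodd) this
  rw [hj0, pow_zero] at hj
  exact Subgroup.card_eq_one.mp hj

end Cfsg.Agent.Lib.helper6.AbCent.Z
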