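import Mathlib
import Cfsg.Agent.Lib.helper6.AbCent.Defs
import Cfsg.Agent.Lib.helper2.AbCentB
import Cfsg.Agent.Lib.helper2.AbCentK
import Cfsg.Agent.Lib.Helper22.AbCentQ
import Cfsg.Agent.Lib.Helper29.AbCentM
import Cfsg.Agent.Lib.Helper29.AbCentE
import Cfsg.Agent.Lib.helper7.AbCentS
import Cfsg.Agent.Lib.helper6.AbCent.U
import Cfsg.Agent.Lib.helper6.AbCent.Z
import Cfsg.Agent.Lib.Helper22.AbCentG
import Cfsg.Agent.Lib.Helper11.AbCentA
import Cfsg.Agent.Lib.Helper27.AbCentH

/-!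
# AbCent: assembly (strong induction) for S2202
-/

set_option autoImplicit false

namespace Cfsg.Agent.Lib.helper6.AbCent.Asm
open Cfsg.Agent.Lib.helper6.AbCent Cfsg.Agent.Lib.helper2.AbCent Cfsg.Agent.Lib.Helper22.AbCent
  Cfsg.Agent.Lib.Helper29.AbCent Cfsg.Agent.Lib.helper7.AbCent Cfsg.Agent.Lib.helper6.AbCent.U
  Cfsg.Agent.Lib.helper6.AbCent.Z Cfsg.Agent.Lib.Helper11.AbCent Cfsg.Agent.Lib.Helper27.AbCent


universe u

theorem clean_top {G : Type u} [Group G] (hc : Clean G) : Clean ↥(⊤ : Subgroup G) := by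
  intro t x ht hx
  have ht' : orderOf (t : G) = 2 := by rw [Subgroup.orderOf_coe]; exact ht
  have hx' : (x : G) * (t : G) = (t : G) * (x : G) := by exact_mod_cast congrArg Subtype.val hx
  obtain ⟨n, hn⟩ := hc t x ht' hx'
  exact ⟨n, by rw [← Subgroup.orderOf_coe]; exact hn⟩

theorem concl_of_clean {G : Type u} [Group G] [Finite G] (hc : Clean G) : Concl G := by
  refine ⟨⊤, ⊥, inferInstance, bot_le, ?_, ?_, ?_, clean_top hc⟩
  · simp
  · simp
  · simp

theorem sylow_eq_of_le_NN {G : Type u} [Group G] [Finite G] (P Q : Sylow 2 G)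
    (h : (Q : Subgroup G) ≤ NN P) : Q = P := by
  have hle : (Q : Subgroup G) ≤ P := by
    intro x hx
    apply mem_sylow_of_normalizes P _ (h hx)
    obtain ⟨n, hn⟩ := (IsPGroup.iff_orderOf.mp Q.isPGroup') ⟨x, hx⟩
    exact ⟨n, (Subgroup.orderOf_coe (⟨x, hx⟩ : (Q : Subgroup G))).trans hn⟩
  exact (Sylow.ext (Q.is_maximal' P.isPGroup' hle)).symm

/-- transitivity of `P` on the other Sylows inside `H`, from the conclusion for `H` -/
theorem trans_of_le {G : Type u} [Group G] [Finite G] (hS : Setup G) (P : Sylow 2 G)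
    (H : Subgroup G) (hPH : (P : Subgroup G) ≤ H) (hC : Setup ↥H → Concl ↥H) :
    ∀ Q R : Sylow 2 G, (Q : Subgroup G) ≤ H → (R : Subgroup G) ≤ H → Q ≠ P → R ≠ P →
      ∃ x ∈ P, x • Q = R := by
  intro Q R hQ hR hQP hRP
  by_cases hH : H ≤ NN P
  · exact absurd (sylow_eq_of_le_NN P Q (hQ.trans hH)) hQP
  · have hSH := Setup.of_le hS P H hPH hH
    obtain ⟨x, hx, hxQ⟩ := concl_trans hSH (hC hSH) (P.subtype hPH) (Q.subtype hQ) (R.subtype hR)
      (fun h => hQP (Sylow.subtype_injective h)) (fun h => hRP (Sylow.subtype_injective h))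
    refine ⟨(x : G), ?_, ?_⟩
    · have : x ∈ ((P.subtype hPH : Sylow 2 ↥H) : Subgroup ↥H) := hx
      rw [Sylow.coe_subtype, Subgroup.mem_subgroupOf] at this
      exact this
    · rw [Sylow.smul_subtype] at hxQ
      exact Sylow.subtype_injective hxQ

theorem exists_invol_mem {G : Type u} [Group G] [Finite G] (hS : Setup G) (P : Sylow 2 G) :
    ∃ t ∈ P, orderOf t = 2 := by
  have h3 := three_le_nI hS P
  have hne : Nonempty {t : G // t ∈ (P : Subgroup G) ∧ orderOf t = 2} := by
    by_contra hemp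
    rw [not_nonempty_iff] at hemp
    have : nI (P : Subgroup G) = 0 := Nat.card_of_isEmpty
    omega
  obtain ⟨⟨t, ht, ht2⟩⟩ := hne
  exact ⟨t, ht, ht2⟩

theorem CC_comm {G : Type u} [Group G] [Finite G] (hS : Setup G) (P : Sylow 2 G) :
    ∀ x ∈ CC P, ∀ y ∈ CC P, x * y = y * x := by
  obtain ⟨t, ht, ht2⟩ := exists_invol_mem hS P
  intro x hx y hy
  exact hS.ac t ht2 x y (Subgroup.mem_centralizer_iff.mp hx t ht).symm
    (Subgroup.mem_centralizer_iff.mp hy t ht).symm

theorem normalizer_KK {G : Type u} [Group G] [Finite G] (hS : Setup G)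
    (hO : ∀ N : Subgroup G, N.Normal → Odd (Nat.card N) → N = ⊥)
    (IH : ∀ H : Subgroup G, H ≠ ⊤ → Setup ↥H → Concl ↥H) (P : Sylow 2 G) (hK : KK P ≠ ⊥) :
    Subgroup.normalizer ((KK P : Subgroup G) : Set G) = NN P := by
  have hPH : NN P ≤ Subgroup.normalizer ((KK P : Subgroup G) : Set G) := NN_le_normalizer_KK P
  have hH : Subgroup.normalizer ((KK P : Subgroup G) : Set G) ≠ ⊤ := by
    intro htop
    have hn : (KK P).Normal := Subgroup.normalizer_eq_top_iff.mp htop
    exact hK (hO _ hn (odd_card_KK hS P))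
  exact stepM hS P _ hPH hH (trans_of_le hS P _ (Subgroup.le_normalizer.trans hPH) (IH _ hH))

theorem cent_le_NN {G : Type u} [Group G] [Finite G] (hS : Setup G)
    (hO : ∀ N : Subgroup G, N.Normal → Odd (Nat.card N) → N = ⊥)
    (IH : ∀ H : Subgroup G, H ≠ ⊤ → Setup ↥H → Concl ↥H) (P : Sylow 2 G) {y : G} (hy : y ∈ KK P)
    (hy1 : y ≠ 1) : Subgroup.centralizer ({y} : Set G) ≤ NN P := by
  by_contra hnot
  have hyC := (mem_KK hS P).mp hy
  have hPH : (P : Subgroup G) ≤ Subgroup.centralizer ({y} : Set G) := by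
    intro x hx
    rw [Subgroup.mem_centralizer_iff]
    intro z hz
    rw [Set.mem_singleton_iff] at hz
    subst hz
    exact (Subgroup.mem_centralizer_iff.mp hyC.1 x hx).symm
  have hHtop : Subgroup.centralizer ({y} : Set G) ≠ ⊤ := by
    intro htop
    have hcomm : ∀ g : G, Commute y g := by
      intro g
      have hg : g ∈ Subgroup.centralizer ({y} : Set G) := by rw [htop]; trivial
      exact Subgroup.mem_centralizer_iff.mp hg y rfl
    have hn : (Subgroup.zpowers y).Normal := by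
      refine ⟨fun n hn g => ?_⟩
      obtain ⟨k, rfl⟩ := Subgroup.mem_zpowers_iff.mp hn
      have hc : Commute (y ^ k) g := (hcomm g).zpow_left k
      have : g * y ^ k * g⁻¹ = y ^ k := by rw [← hc.eq, mul_inv_cancel_right]
      rw [this]
      exact Subgroup.zpow_mem_zpowers y k
    have hodd : Odd (Nat.card (Subgroup.zpowers y)) := by rw [Nat.card_zpowers]; exact hyC.2
    exact hy1 (Subgroup.zpowers_eq_bot.mp (hO _ hn hodd))
  have hSH := Setup.of_le hS P _ hPH hnot
  have hCH := IH _ hHtop hSH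
  have hcen := concl_KK_central hSH hCH (P.subtype hPH)
  apply hnot
  have hKne : KK P ≠ ⊥ := fun hb => hy1 (by rw [hb] at hy; exact (Subgroup.mem_bot.mp hy))
  rw [← normalizer_KK hS hO IH P hKne]
  refine le_trans ?_ (Subgroup.centralizer_le_normalizer _)
  intro g hg
  rw [Subgroup.mem_centralizer_iff]
  intro k hk
  have hkC := (mem_KK hS P).mp hk
  have hkH : k ∈ Subgroup.centralizer ({y} : Set G) := by
    rw [Subgroup.mem_centralizer_iff]
    intro z hz
    rw [Set.mem_singleton_iff] at hz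
    subst hz
    exact CC_comm hS P _ hyC.1 _ hkC.1
  have hkK : (⟨k, hkH⟩ : ↥(Subgroup.centralizer ({y} : Set G))) ∈ KK (P.subtype hPH) := by
    rw [mem_KK hSH]
    refine ⟨?_, ?_⟩
    · rw [Subgroup.mem_centralizer_iff]
      intro z hz
      have hz' : (z : G) ∈ (P : Subgroup G) := by
        have : z ∈ ((P.subtype hPH : Sylow 2 _) : Subgroup _) := hz
        rw [Sylow.coe_subtype, Subgroup.mem_subgroupOf] at this
        exact this
      apply Subtype.ext
      exact Subgroup.mem_centralizer_iff.mp hkC.1 _ hz'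
    · rw [← Subgroup.orderOf_coe]
      exact hkC.2
  have := Subgroup.mem_center_iff.mp (hcen hkK) ⟨g, hg⟩
  have h2 := congrArg Subtype.val this
  simpa using h2.symm

theorem stepS {G : Type u} [Group G] [Finite G] (hS : Setup G) (P : Sylow 2 G)
    (hgen : Subgroup.normalClosure ((P : Subgroup G) : Set G) = ⊤)
    (N : Subgroup G) [N.Normal] (hodd : Odd (Nat.card N)) (hN : N ≠ ⊥)
    (IHQ : Concl (G ⧸ N)) : False := by
  have hSQ : Setup (G ⧸ N) := Setup.quotient hS N hodd
  obtain ⟨P'⟩ : Nonempty (Sylow 2 (G ⧸ N)) := inferInstance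
  have hgen' := normalClosure_quotient P hgen N P'
  have hclean : Clean (G ⧸ N) := concl_clean_of_gen hSQ IHQ P' hgen'
  have h2 : N ≤ KK P := odd_le_CC hS P N hodd (fun x _ => by
    rw [Subgroup.normalizer_eq_top_iff.mpr (inferInstance : N.Normal)]; exact Subgroup.mem_top x)
  have h3 : N ≤ CC P := fun x hx => ((mem_KK hS P).mp (h2 hx)).1
  exact stepS_core P hgen N hodd hN hSQ.nc h3 (clean_iso hSQ hclean)

theorem main : ∀ (n : ℕ) (G : Type u) [Group G] [Finite G], Nat.card G = n → Setup G → Concl G := by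
  intro n
  induction n using Nat.strong_induction_on with
  | _ n ih =>
  intro G _ _ hn hS
  have IH : ∀ H : Subgroup G, H ≠ ⊤ → Setup ↥H → Concl ↥H := by
    intro H hH hSH
    refine ih (Nat.card ↥H) ?_ ↥H rfl hSH
    rw [← hn]
    exact lt_of_le_of_ne (Subgroup.card_le_card_group H) (fun h => hH (Subgroup.eq_top_of_card_eq H h))
  obtain ⟨P⟩ : Nonempty (Sylow 2 G) := inferInstance
  by_cases hK : KK P = ⊥
  · exact concl_of_clean ((clean_iff_KK hS P).mpr hK)
  by_cases hgen : Subgroup.normalClosure ((P : Subgroup G) : Set G) = ⊤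
  swap
  · exact stepA hS P hgen IH
  by_cases hO : ∀ N : Subgroup G, N.Normal → Odd (Nat.card N) → N = ⊥
  swap
  · push Not at hO
    obtain ⟨N, hNn, hNodd, hN⟩ := hO
    haveI := hNn
    exfalso
    refine stepS hS P hgen N hNodd hN
      (ih (Nat.card (G ⧸ N)) ?_ (G ⧸ N) rfl (Setup.quotient hS N hNodd))
    rw [← hn, Subgroup.card_eq_card_quotient_mul_card_subgroup N]
    have h1 : 1 < Nat.card N := (Subgroup.one_lt_card_iff_ne_bot N).mpr hN
    have h2 : 0 < Nat.card (G ⧸ N) := Nat.card_pos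
    nlinarith
  exfalso
  have hAlt : ∀ P : Sylow 2 G, ∀ y ∈ KK P, y ≠ 1 → Subgroup.centralizer ({y} : Set G) ≤ NN P :=
    fun P' y hy hy1 => cent_le_NN hS hO IH P' hy hy1
  have hsemi := stepE hS hAlt
  have hfpf : ∀ P Q : Sylow 2 G, P ≠ Q → ∀ d ∈ NN P ⊓ NN Q, d ≠ 1 → ∀ k ∈ KK P,
      k * d = d * k → k = 1 :=
    fun P Q hPQ d hd hd1 k hk hkd => stepH hS hsemi hO IH P Q hPQ hd hd1 hk hkd
  exact hK (stepZ hS hsemi hfpf P)

theorem final {G : Type u} [Group G] [Finite G]
    (h : ∀ t : G, orderOf t = 2 → IsMulCommutative ↥(Subgroup.centralizer ({t} : Set G))) :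
    (∀ P : Sylow 2 G, IsCyclic ↥P) ∨ (∀ P : Sylow 2 G, (P : Subgroup G).Normal) ∨
    (∃ (F : Type) (_ : Field F) (_ : Fintype F) (A : Type) (_ : CommGroup A) (_ : Finite A),
      CharP F 2 ∧ Odd (Nat.card A) ∧ Nonempty (G ≃* Matrix.SpecialLinearGroup (Fin 2) F × A)) := by
  by_cases h1 : ∃ P : Sylow 2 G, IsCyclic ↥P
  · left
    obtain ⟨P, hP⟩ := h1
    intro Q
    obtain ⟨g, rfl⟩ := MulAction.exists_smul_eq G P Q
    exact isCyclic_of_surjective (P.equivSMul g) (P.equivSMul g).surjective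
  by_cases h2 : ∃ P : Sylow 2 G, (P : Subgroup G).Normal
  · right; left
    obtain ⟨P, hP⟩ := h2
    intro Q
    obtain ⟨g, rfl⟩ := MulAction.exists_smul_eq G P Q
    rw [Sylow.smul_eq_of_normal]
    exact hP
  right; right
  push Not at h1 h2
  have hAC : AC G := by
    intro t ht x y hx hy
    have hx' : x ∈ Subgroup.centralizer ({t} : Set G) := by
      rw [Subgroup.mem_centralizer_iff]
      intro z hz
      rw [Set.mem_singleton_iff] at hz
      subst hz
      exact hx.symm
    have hy' : y ∈ Subgroup.centralizer ({t} : Set G) := by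
      rw [Subgroup.mem_centralizer_iff]
      intro z hz
      rw [Set.mem_singleton_iff] at hz
      subst hz
      exact hy.symm
    have := (h t ht).is_comm.comm ⟨x, hx'⟩ ⟨y, hy'⟩
    exact congrArg Subtype.val this
  have hS : Setup G := ⟨hAC, h1, h2⟩
  exact concl_iso hS (main _ G rfl hS)

end Cfsg.Agent.Lib.helper6.AbCent.Asm
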